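import Mathlib
import Cfsg.Agent.S0907
import Cfsg.Agent.BLK.Princ3
import Cfsg.Agent.BLK.GRoots
import Cfsg.Agent.CHAR.Galois

/-!
Odd-degree characters of the principal 2-block fixed by a Galois automorphism of 2-power order.
-/

set_option autoImplicit false
open Cfsg CL.Char CL.Blk
open scoped ComplexConjugate

namespace CL.S2F

variable {G : Type*} [Group G] [Finite G] {p : ℕ} {M : Ideal AlgInt}

theorem red_char_pow (hM : IsPModular p M) {f : G → ℂ} (hf : IsCharacter G f) (x : G) (a : ℕ) :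
    red M (f (x ^ p ^ a)) = red M (f x) ^ p ^ a := by
  obtain ⟨d, ε, -, h2, h3⟩ := CL.Glb.exists_eigen hf x
  have h4 : f x = ∑ i, ε i := by simpa using h3 1
  have hV : ∀ i, ε i ∈ V M := fun i => mem_V_of_pow (orderOf_pos x).ne' (by rw [h2]; exact one_mem _)
  have := Fact.mk hM.1
  have := charP_F hM
  rw [h3, h4, red_sum _ fun i _ => hV i, red_sum _ fun i _ => pow_mem (hV i) _, sum_pow_char_pow]
  exact Finset.sum_congr rfl fun i _ => red_pow (hV i) _

/-- a character which is a unit at all `p`-regular elements is linear -/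
theorem lin_of_unit (hM : IsPModular p M) (χ : IrrCharacter G)
    (h : ∀ y : G, ¬ p ∣ orderOf y → χ.1 y ∉ (V M).nonunits) : χ.1 1 = 1 := by
  by_contra h1
  obtain ⟨g, hg⟩ := χ.2.exists_apply_eq_zero h1
  obtain ⟨a, m, hm, ham⟩ := Nat.exists_eq_pow_mul_and_not_dvd (orderOf_pos g).ne' p hM.1.ne_one
  refine h (g ^ p ^ a) (fun hd => hm (hd.trans (orderOf_dvd_of_pow_eq_one ?_))) ?_
  · rw [← pow_mul, ← ham, pow_orderOf_eq_one]
  · rw [← red_eq_zero_iff (irr_mem_V χ _), red_char_pow hM χ.2.isCharacter, hg, red_zero,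
      zero_pow (pow_ne_zero a hM.1.ne_zero)]

theorem coprime_k {k : ℕ} (hk₁ : ∀ g : G, (∃ j : ℕ, orderOf g = 2 ^ j) → g ^ k = g ^ 3)
    (hk₂ : ∀ g : G, Odd (orderOf g) → g ^ k = g) : k.Coprime (Nat.card G) := by
  refine Nat.Coprime.symm (Nat.coprime_of_dvd fun q hq hqG hqk => ?_)
  have := Fact.mk hq
  obtain ⟨g, hg⟩ := exists_prime_orderOf_dvd_card' q hqG
  have h1 : g ^ k = 1 := orderOf_dvd_iff_pow_eq_one.1 (hg ▸ hqk)
  have h2 : g ^ k = g := by
    rcases hq.eq_two_or_odd' with rfl | ho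
    · rw [hk₁ g ⟨1, by rw [hg, pow_one]⟩, pow_succ, ← hg, pow_orderOf_eq_one, one_mul]
    · exact hk₂ g (hg ▸ ho)
  rw [h1] at h2
  rw [← h2, orderOf_one] at hg
  exact hq.ne_one hg.symm

theorem exists_iter {k : ℕ} (hk : k.Coprime (Nat.card G))
    (hk₂ : ∀ g : G, Odd (orderOf g) → g ^ k = g) : ∃ e : ℕ, ∀ g : G, g ^ k ^ 2 ^ e = g := by
  refine ⟨(Nat.card G).factorization 2, fun g => ?_⟩
  obtain ⟨u, s, rfl, hc, ⟨j, hj⟩, hs⟩ := CL.Blk.exists_isPPart Nat.prime_two g
  have hs' : ∀ m : ℕ, s ^ k ^ m = s := fun m => by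
    induction m with
    | zero => simp
    | succ m ih => rw [pow_succ, pow_mul, ih, hk₂ s (Nat.odd_iff.2 (by omega))]
  rw [hc.mul_pow, hs']
  congr 1
  rcases Nat.eq_zero_or_pos j with rfl | hj0
  · rw [pow_zero, orderOf_eq_one_iff] at hj
    rw [hj, one_pow]
  have hje : j ≤ (Nat.card G).factorization 2 :=
    (Nat.prime_two.pow_dvd_iff_le_factorization Nat.card_pos.ne').1 (hj ▸ orderOf_dvd_natCard u)
  have h2 : 2 ∣ Nat.card G := (dvd_pow_self 2 hj0.ne').trans (hj ▸ orderOf_dvd_natCard u)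
  have h3 : k ^ 2 ^ (Nat.card G).factorization 2 ≡ 1 [MOD orderOf u] := by
    have h4 := Nat.ModEq.pow_totient (x := k) (n := 2 ^ ((Nat.card G).factorization 2 + 1))
      (Nat.Coprime.pow_right _ (hk.coprime_dvd_right h2))
    rw [Nat.totient_prime_pow_succ Nat.prime_two] at h4
    rw [hj]
    exact (by simpa using h4 : k ^ 2 ^ (Nat.card G).factorization 2 ≡ 1
      [MOD 2 ^ ((Nat.card G).factorization 2 + 1)]).of_dvd (pow_dvd_pow _ (by omega))
  rw [pow_eq_pow_iff_modEq.2 h3, pow_one]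

open Classical in
/-- the fixed odd-degree characters of the principal block add up to zero modulo `M` at `y` -/
theorem fix_sum (hM : IsPModular 2 M) (hev : Even (Nat.card G)) {k e : ℕ}
    (hk : k.Coprime (Nat.card G)) (he : ∀ g : G, g ^ k ^ 2 ^ e = g) {y : G} (hy : ¬ 2 ∣ orderOf y)
    (hyk : ∀ χ : IrrCharacter G, χ.1 (y ^ k) = χ.1 y) :
    ∑ χ : IrrCharacter G with (χ ∈ principalBlock M G ∧ Odd (charDegree χ.1) ∧
      ∀ g, χ.1 (g ^ k) = χ.1 g), χ.1 y ∈ (V M).nonunits := by
  let σ : Equiv.Perm (IrrCharacter G) := powIrr hk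
  have hσ : ∀ (m : ℕ) (χ : IrrCharacter G) (g : G), ((σ ^ m) χ).1 g = χ.1 (g ^ k ^ m) := fun m => by
    induction m with
    | zero => intro χ g; simp
    | succ m ih =>
      intro χ g
      rw [pow_succ', pow_succ', pow_mul, ← ih]
      rfl
  have h1 : σ ^ 2 ^ e = 1 := Equiv.ext fun χ => Subtype.ext (funext fun g => by rw [hσ, he]; rfl)
  have hP : IsPGroup 2 (Subgroup.zpowers σ) := by
    rintro ⟨_, m, rfl⟩
    exact ⟨e, Subtype.ext (by
      change (σ ^ m) ^ 2 ^ e = 1
      rw [← zpow_natCast, ← zpow_mul, mul_comm, zpow_mul, zpow_natCast, h1, one_zpow])⟩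
  let f : IrrCharacter G → ℂ := fun χ =>
    if χ ∈ principalBlock M G ∧ Odd (charDegree χ.1) then χ.1 y else 0
  have hf : ∀ χ, f (σ χ) = f χ := fun χ => by
    have e1 : charDegree (σ χ).1 = charDegree χ.1 := by
      simp only [σ, charDegree, powIrr_apply, one_pow]
    have e2 : (σ χ).1 y = χ.1 y := hyk χ
    simp only [f, e1, e2, σ, powIrr_mem_principal_iff hM hk]
  have hf' : ∀ (m : ℕ) χ, f ((σ ^ m) χ) = f χ := fun m => by
    induction m with
    | zero => intro χ; rfl
    | succ m ih => intro χ; rw [pow_succ', Equiv.Perm.mul_apply, hf, ih]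
  have h2 := sum_sub_sum_fixed_mem hM hP f (fun χ => by
    simp only [f]
    split_ifs
    exacts [irr_mem_V χ y, zero_mem _]) (fun u χ => by
      obtain ⟨m, hm⟩ := (Submonoid.mem_powers_iff _ _).1 (mem_powers_iff_mem_zpowers.2 u.2)
      change f (u.1 χ) = f χ
      rw [← hm, hf'])
  obtain ⟨u, hu⟩ := exists_prime_orderOf_dvd_card' 2 hev.two_dvd
  have h3 := Cfsg.Agent.S0907.result 2 M hM _ isPBlock_principalBlock y u hy (by rw [hu])
  rw [finsum_mem_block_eq] at h3
  have h4 : ∑ χ, f χ ∈ (V M).nonunits := by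
    rw [← sub_zero (∑ χ, f χ), ← h3, Finset.sum_filter, ← Finset.sum_sub_distrib]
    refine sum_mem fun χ _ => ?_
    have h5 := conj_char_sub_one_mem hM χ.2.isCharacter (x := u) ⟨1, by simpa using hu⟩
    by_cases hB : χ ∈ principalBlock M G
    · by_cases ho : Odd (charDegree χ.1)
      · have h6 : χ.1 1 - 1 ∈ (V M).nonunits := by
          obtain ⟨m, hm⟩ := ho
          rw [irr_one_eq, hm, show ((2 * m + 1 : ℕ) : ℂ) - 1 = ((2 * m : ℕ) : ℂ) by push_cast; ring,
            natCast_mem_nonunits_iff hM]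
          exact dvd_mul_right 2 m
        simp only [f, hB, ho, and_self, if_true]
        convert neg_mem (mul_mem_nonunits_left (irr_mem_V χ y) (add_mem h5 h6)) using 1
        ring
      · have h6 : χ.1 1 ∈ (V M).nonunits := by
          rw [irr_one_eq, natCast_mem_nonunits_iff hM]
          exact (Nat.not_odd_iff_even.1 ho).two_dvd
        simp only [f, hB, ho, and_false, if_true, if_false]
        convert neg_mem (mul_mem_nonunits_left (irr_mem_V χ y) (add_mem h5 h6)) using 1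
        ring
    · simp only [f, hB, false_and, if_false, sub_zero]
      exact zero_mem _
  rw [mem_nonunits_iff_of_sub h2] at h4
  convert h4 using 1
  rw [Finset.sum_filter, Finset.sum_filter]
  refine Finset.sum_congr rfl fun χ _ => ?_
  have e : (∀ u : Subgroup.zpowers σ, u • χ = χ) ↔ ∀ g, χ.1 (g ^ k) = χ.1 g := by
    constructor
    · intro h g
      exact congrFun (congrArg Subtype.val (h ⟨σ, Subgroup.mem_zpowers σ⟩)) g
    · intro h u
      have h7 : σ χ = χ := Subtype.ext (funext h)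
      exact (Subgroup.zpowers_le.2 (show σ ∈ MulAction.stabilizer _ χ from h7)) u.2
  simp only [f, e]
  by_cases h8 : ∀ g, χ.1 (g ^ k) = χ.1 g
  · simp only [h8, implies_true, and_true, if_true]
  · simp only [h8, and_false, if_false]

end CL.S2F
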